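import Groth.Agent.FlatDescent.Point
import Groth.Agent.ImmDescent.Basic

/-!
# Generalisations of finitely many points with isomorphic stalk maps

For `f : T ⟶ X` and a finite set `s` of points of `T` at which the stalk maps are isomorphisms:
* `Gen s`: generalisations of points of `s`; `bijective_stalkMap_of_gen`; `exists_gen_lift`;
* `gen_inj`: `f` is injective on `Gen s` if it is injective on the minimal points (`T` affine);
* `exists_specializes_of_mem_closure_image`.
-/

universe u

open CategoryTheory CategoryTheory.Limits AlgebraicGeometry TopologicalSpace Opposite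

set_option backward.isDefEq.respectTransparency false

namespace Groth.Agent.AffineNbhd

variable {T X : Scheme.{u}} (f : T ⟶ X)

/-- Generalisations of the points of `s`. -/
def Gen (s : Finset T) : Set T := {e | ∃ t ∈ s, e ⤳ t}

theorem mem_gen_self {s : Finset T} {t : T} (ht : t ∈ s) : t ∈ Gen s := ⟨t, ht, specializes_rfl⟩

theorem gen_of_specializes {s : Finset T} {e e' : T} (h : e' ⤳ e) (he : e ∈ Gen s) : e' ∈ Gen s := by
  obtain ⟨t, ht, het⟩ := he
  exact ⟨t, ht, h.trans het⟩

/-- The image of a closed set under a morphism from a quasi-compact scheme: points of its closure are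
specialisations. -/
theorem exists_specializes_of_mem_closure_image {P : Scheme.{u}} (g : P ⟶ X) [CompactSpace P]
    [QuasiSeparatedSpace X] {K : Set P} (hK : IsClosed K) {x : X} (hx : x ∈ closure (g '' K)) :
    ∃ e ∈ K, g e ⤳ x := by
  let I := Scheme.IdealSheafData.vanishingIdeal ⟨K, hK⟩
  have hr : Set.range I.subschemeι = K := by
    rw [Scheme.IdealSheafData.range_subschemeι]
    rfl
  have : CompactSpace I.subscheme :=
    ((inferInstance : IsClosedImmersion I.subschemeι).isClosedEmbedding.compactSpace)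
  have : QuasiCompact (I.subschemeι ≫ g) := quasiCompact_of_compactSpace _
  have hrange : g '' K = Set.range (I.subschemeι ≫ g) := by
    rw [← hr, ← Set.range_comp]; rfl
  rw [hrange] at hx
  obtain ⟨z, hz⟩ := ImmDescent.exists_specializes_of_mem_closure_range _ hx
  exact ⟨I.subschemeι z, hr.subset ⟨z, rfl⟩, hz⟩

theorem bijective_stalkMap_of_gen {t e : T} (he : e ⤳ t) (ht : IsIso (f.stalkMap t)) :
    Function.Bijective (f.stalkMap e).hom := by
  obtain ⟨p, rfl⟩ : e ∈ Set.range (T.fromSpecStalk t) := by
    rw [Scheme.range_fromSpecStalk]; exact he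
  have key : ∀ φ : Spec (T.presheaf.stalk t) ⟶ X,
      Spec.map (f.stalkMap t) ≫ X.fromSpecStalk (f t) = φ → Function.Bijective (φ.stalkMap p).hom := by
    rintro φ rfl
    have := FlatDescent.flat_fromSpecStalk (f t)
    rw [Scheme.Hom.stalkMap_comp]
    exact (ConcreteCategory.bijective_of_isIso ((Spec.map (f.stalkMap t)).stalkMap p)).comp
      (FlatDescent.bijective_stalkMap _ _)
  have h := key _ (Scheme.SpecMap_stalkMap_fromSpecStalk f)
  rw [Scheme.Hom.stalkMap_comp] at h
  have := FlatDescent.flat_fromSpecStalk t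
  exact (Function.Bijective.of_comp_iff' (FlatDescent.bijective_stalkMap (T.fromSpecStalk t) p) _).mp h

theorem exists_gen_lift {t : T} (ht : IsIso (f.stalkMap t)) {y : X} (hy : y ⤳ f t) :
    ∃ e : T, e ⤳ t ∧ f e = y := by
  obtain ⟨q, rfl⟩ : y ∈ Set.range (X.fromSpecStalk (f t)) := by
    rw [Scheme.range_fromSpecStalk]; exact hy
  obtain ⟨p, rfl⟩ := (Scheme.homeoOfIso (asIso (Spec.map (f.stalkMap t)))).surjective q
  refine ⟨T.fromSpecStalk t p, ?_, ?_⟩
  · have : T.fromSpecStalk t p ∈ Set.range (T.fromSpecStalk t) := ⟨p, rfl⟩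
    rwa [Scheme.range_fromSpecStalk] at this
  · exact (congrArg (fun g => g p) (Scheme.SpecMap_stalkMap_fromSpecStalk f (x := t))).symm

/-- Two functions whose images agree at a point in the local ring with given images at `e` and `e'`. -/
theorem isUnit_iff_of_gen [IsAffine T] {η e e' : T} (h : η ⤳ e) (h' : η ⤳ e') (hee : f e = f e')
    (he : Function.Bijective (f.stalkMap e).hom) (he' : Function.Bijective (f.stalkMap e').hom)
    (a : Γ(T, ⊤)) (ha : e' ∈ T.basicOpen a) : e ∈ T.basicOpen a := by
  rw [T.mem_basicOpen_top] at ha ⊢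
  obtain ⟨c, hc⟩ := he.2 (T.presheaf.germ ⊤ e trivial a)
  obtain ⟨c', hc'⟩ := he'.2 (T.presheaf.germ ⊤ e' trivial a)
  have hc'u : IsUnit c' := isUnit_of_map_unit (f.stalkMap e').hom _ (hc' ▸ ha)
  let sp := X.presheaf.stalkSpecializes (h.map f.continuous)
  let sp' := X.presheaf.stalkSpecializes (h'.map f.continuous)
  have h1 : (f.stalkMap η).hom (sp c) = T.presheaf.germ ⊤ η trivial a := by
    have := congr(($(f.stalkSpecializes_stalkMap η e h)) c)
    refine this.trans ?_
    show T.presheaf.stalkSpecializes h ((f.stalkMap e).hom c) = _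
    rw [hc]
    exact congr(($(T.presheaf.germ_stalkSpecializes (U := (⊤ : T.Opens)) trivial h)) a)
  have h2 : (f.stalkMap η).hom (sp' c') = T.presheaf.germ ⊤ η trivial a := by
    have := congr(($(f.stalkSpecializes_stalkMap η e' h')) c')
    refine this.trans ?_
    show T.presheaf.stalkSpecializes h' ((f.stalkMap e').hom c') = _
    rw [hc']
    exact congr(($(T.presheaf.germ_stalkSpecializes (U := (⊤ : T.Opens)) trivial h')) a)
  rw [← hc]
  refine IsUnit.map (f.stalkMap e).hom ?_
  -- transport `c'` to the stalk at `f e`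
  have key : ∀ (y : X) (hy : η ⤳ e') (hy2 : f η ⤳ y) (d : X.presheaf.stalk y) (hd : IsUnit d),
      f e = y → (f.stalkMap η).hom (X.presheaf.stalkSpecializes hy2 d) =
        T.presheaf.germ ⊤ η trivial a → IsUnit c := by
    intro y _ hy2 d hd hey hval
    subst hey
    by_contra hcu
    have hu : IsUnit (c - d) := by
      rcases IsLocalRing.isUnit_or_isUnit_of_add_one (a := (c - d) * (hd.unit⁻¹ : (X.presheaf.stalk (f e))ˣ) * -1)
        (b := c * (hd.unit⁻¹ : (X.presheaf.stalk (f e))ˣ)) (by
          have := hd.mul_val_inv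
          linear_combination this) with h | h
      · exact isUnit_of_mul_isUnit_left (isUnit_of_mul_isUnit_left h)
      · exact absurd (isUnit_of_mul_isUnit_left h) hcu
    have h3 := (hu.map (X.presheaf.stalkSpecializes hy2).hom).map (f.stalkMap η).hom
    rw [map_sub, map_sub] at h3
    have h0 : (f.stalkMap η).hom (sp c) - (f.stalkMap η).hom (X.presheaf.stalkSpecializes hy2 d) = 0 :=
      sub_eq_zero.mpr (h1.trans hval.symm)
    exact not_isUnit_zero (M₀ := T.presheaf.stalk η) (h0 ▸ h3)
  exact key (f e') h' (h'.map f.continuous) c' hc'u hee h2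

theorem gen_inj [IsAffine T] {s : Finset T} (hs : ∀ t ∈ s, IsIso (f.stalkMap t))
    (hinj : ∀ η η' : T, closure ({η} : Set T) ∈ irreducibleComponents (T : Type u) →
      closure ({η'} : Set T) ∈ irreducibleComponents (T : Type u) → f η = f η' → η = η')
    {e e' : T} (he : e ∈ Gen s) (he' : e' ∈ Gen s) (h : f e = f e') : e = e' := by
  obtain ⟨t, ht, het⟩ := he
  obtain ⟨t', ht', het'⟩ := he'
  have hb := bijective_stalkMap_of_gen f het (hs t ht)
  have hb' := bijective_stalkMap_of_gen f het' (hs t' ht')
  have hgenpt : ∀ x : T, ∃ ζ, closure ({ζ} : Set T) ∈ irreducibleComponents (T : Type u) ∧ ζ ⤳ x := by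
    intro x
    obtain ⟨ζ, hζ⟩ := QuasiSober.sober isIrreducible_irreducibleComponent
      (isClosed_irreducibleComponent (x := x))
    exact ⟨ζ, hζ.def ▸ irreducibleComponent_mem_irreducibleComponents x,
      hζ.specializes mem_irreducibleComponent⟩
  obtain ⟨η, hηc, hηe⟩ := hgenpt e
  have hiso' : IsIso (f.stalkMap e') := (ConcreteCategory.isIso_iff_bijective _).mpr hb'
  have hbη := bijective_stalkMap_of_gen f (hηe.trans het) (hs t ht)
  have hisoη : IsIso (f.stalkMap η) := (ConcreteCategory.isIso_iff_bijective _).mpr hbη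
  obtain ⟨η', hη'e', hη'f⟩ := exists_gen_lift f hiso'
    ((hηe.map f.continuous).trans (specializes_of_eq h))
  obtain ⟨ζ, hζc, hζη'⟩ := hgenpt η'
  obtain ⟨ω, hωη, hωf⟩ := exists_gen_lift f hisoη
    ((hζη'.map f.continuous).trans (specializes_of_eq hη'f))
  have hωη' : ω = η := by
    refine (hωη.antisymm ?_).eq
    have hle : closure ({η} : Set T) ⊆ closure {ω} := hωη.closure_subset
    have := hηc.2 (isIrreducible_singleton.closure) hle
    exact specializes_iff_mem_closure.mpr (this (subset_closure rfl))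
  subst hωη'
  obtain rfl := hinj ω ζ hηc hζc hωf
  have hωe' : ω ⤳ e' := hζη'.trans hη'e'
  have hbasis := (isAffineOpen_top T)
  have key : ∀ a b : T, (∀ g : Γ(T, ⊤), a ∈ T.basicOpen g → b ∈ T.basicOpen g) → b ⤳ a := by
    intro a b hab
    refine specializes_iff_forall_open.mpr fun O hO haO => ?_
    obtain ⟨g, hg, hag⟩ := hbasis.exists_basicOpen_le (V := ⟨O, hO⟩) ⟨a, haO⟩ trivial
    exact hg (hab g hag)
  exact ((key e' e fun g hg => isUnit_iff_of_gen f hηe hωe' h hb hb' g hg).antisymm
    (key e e' fun g hg => isUnit_iff_of_gen f hωe' hηe h.symm hb' hb g hg)).eq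

end Groth.Agent.AffineNbhd
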