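import Groth.Agent.AffineNbhd.Gen
import Groth.Agent.QCohLib.Criterion
import Mathlib.AlgebraicGeometry.Morphisms.QuasiSeparated
import Mathlib.AlgebraicGeometry.Morphisms.Affine

/-!
# An affine neighbourhood of finitely many points
-/

universe u

open CategoryTheory CategoryTheory.Limits AlgebraicGeometry TopologicalSpace Opposite

set_option backward.isDefEq.respectTransparency false

namespace Groth.Agent.AffineNbhd

variable {T X : Scheme.{u}} (f : T ⟶ X)

theorem res_res {U V W : X.Opens} (h₁ : V ≤ U) (h₂ : W ≤ V) (a : Γ(X, U)) :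
    X.presheaf.map (homOfLE h₂).op (X.presheaf.map (homOfLE h₁).op a) =
      X.presheaf.map (homOfLE (h₂.trans h₁)).op a := by
  rw [← CategoryTheory.comp_apply, ← Functor.map_comp]; rfl

theorem exists_compact_open (x : X) (O : X.Opens) (hx : x ∈ O) :
    ∃ W : X.Opens, IsCompact (W : Set X) ∧ x ∈ W ∧ W ≤ O := by
  obtain ⟨W, hW, hxW, hWO⟩ := exists_isAffineOpen_mem_and_subset hx
  exact ⟨W, hW.isCompact, hxW, hWO⟩

theorem exists_compact_open_finset (P : Finset T) (O : X.Opens) (hO : ∀ t ∈ P, f t ∈ O) :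
    ∃ W : X.Opens, IsCompact (W : Set X) ∧ (∀ t ∈ P, f t ∈ W) ∧ W ≤ O := by
  classical
  choose W hW hxW hWO using fun t : P => exists_compact_open (f t.1) O (hO t.1 t.2)
  refine ⟨⨆ t, W t, ?_, fun t ht => Opens.mem_iSup.mpr ⟨⟨t, ht⟩, hxW ⟨t, ht⟩⟩, iSup_le hWO⟩
  rw [Opens.coe_iSup]
  exact isCompact_iUnion hW

variable [IsAffine T] [QuasiSeparatedSpace X] {s : Finset T}
  (hs : ∀ t ∈ s, IsIso (f.stalkMap t))
  (hinj : ∀ η η' : T, closure ({η} : Set T) ∈ irreducibleComponents (T : Type u) →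
    closure ({η'} : Set T) ∈ irreducibleComponents (T : Type u) → f η = f η' → η = η')

include hs hinj in
/-- Open sets around `f P` whose preimage meets the generalisations inside a given open around `P`. -/
theorem exists_nbhd (P : Finset T) (hP : ∀ t ∈ P, t ∈ s) (E : T.Opens) (hPE : ∀ t ∈ P, t ∈ E) :
    ∃ W : X.Opens, (∀ t ∈ P, f t ∈ W) ∧ ∀ e ∈ Gen s, f e ∈ W → e ∈ E := by
  classical
  let g : ∀ t : s, Spec (T.presheaf.stalk t.1) ⟶ X := fun t => T.fromSpecStalk t.1 ≫ f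
  let K : ∀ t : s, Set (Spec (T.presheaf.stalk t.1)) := fun t =>
    (T.fromSpecStalk t.1) ⁻¹' (E : Set T)ᶜ
  have hK : ∀ t, IsClosed (K t) := fun t => E.2.isClosed_compl.preimage (T.fromSpecStalk t.1).continuous
  let C : Set X := ⋃ t : s, closure (g t '' K t)
  have hC : IsClosed C := isClosed_iUnion_of_finite fun t => isClosed_closure
  refine ⟨⟨Cᶜ, hC.isOpen_compl⟩, fun t ht hmem => ?_, fun e he hfe => ?_⟩
  · obtain ⟨k, hk⟩ := Set.mem_iUnion.mp hmem
    obtain ⟨p, hp, hspec⟩ := exists_specializes_of_mem_closure_image (g k) (hK k) hk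
    have hspec' : f (T.fromSpecStalk k.1 p) ⤳ f t := hspec
    obtain ⟨e', he't, he'f⟩ := exists_gen_lift f (hs t (hP t ht)) hspec'
    have hpG : T.fromSpecStalk k.1 p ∈ Gen s := ⟨k.1, k.2, by
      have : T.fromSpecStalk k.1 p ∈ Set.range (T.fromSpecStalk k.1) := ⟨p, rfl⟩
      rwa [Scheme.range_fromSpecStalk] at this⟩
    have := gen_inj f hs hinj (⟨t, hP t ht, he't⟩ : e' ∈ Gen s) hpG he'f
    exact hp (this ▸ he't.mem_open E.2 (hPE t ht))
  · by_contra heE
    obtain ⟨t, ht, het⟩ := he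
    obtain ⟨p, hp⟩ : e ∈ Set.range (T.fromSpecStalk t) := by
      rw [Scheme.range_fromSpecStalk]; exact het
    refine hfe (Set.mem_iUnion.mpr ⟨⟨t, ht⟩, subset_closure ⟨p, ?_, ?_⟩⟩)
    · show T.fromSpecStalk t p ∉ E
      rwa [hp]
    · exact congrArg f hp

include hs hinj in
/-- Functions on `T` come from a neighbourhood of `f s` along the generalisations. -/
theorem exists_section (a : Γ(T, ⊤)) :
    ∃ (W : X.Opens) (σ : Γ(X, W)), IsCompact (W : Set X) ∧ (∀ t ∈ s, f t ∈ W) ∧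
      ∀ (e : T), e ∈ Gen s → ∀ (he : f e ∈ W),
        f.stalkMap e (X.presheaf.germ W (f e) he σ) = T.presheaf.germ ⊤ e trivial a := by
  classical
  -- local sections
  have hloc : ∀ t : s, ∃ (V : X.Opens) (σ : Γ(X, V)), IsCompact (V : Set X) ∧ f t.1 ∈ V ∧
      ∀ (e : T), e ∈ Gen s → ∀ (he : f e ∈ V),
        f.stalkMap e (X.presheaf.germ V (f e) he σ) = T.presheaf.germ ⊤ e trivial a := by
    intro t
    have := hs t.1 t.2
    obtain ⟨c, hc⟩ := (ConcreteCategory.bijective_of_isIso (f.stalkMap t.1)).2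
      (T.presheaf.germ ⊤ t.1 trivial a)
    obtain ⟨V, hxV, σ, rfl⟩ := X.presheaf.exists_germ_eq c
    rw [Scheme.Hom.germ_stalkMap_apply] at hc
    obtain ⟨E, htE, i₁, i₂, hE⟩ := T.presheaf.germ_eq t.1 (V := (⊤ : T.Opens)) hxV trivial _ _ hc
    obtain ⟨W, hW, hWE⟩ := exists_nbhd f hs hinj {t.1} (by simp [t.2]) E (by simp [htE])
    obtain ⟨V', hV', hxV', hV'le⟩ := exists_compact_open (f t.1) (V ⊓ W)
      ⟨hxV, hW t.1 (Finset.mem_singleton_self _)⟩
    refine ⟨V', X.presheaf.map (homOfLE (hV'le.trans inf_le_left)).op σ, hV', hxV', fun e he hev => ?_⟩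
    have heE := hWE e he (hV'le hev).2
    rw [TopCat.Presheaf.germ_res_apply, Scheme.Hom.germ_stalkMap_apply]
    have h := congrArg (T.presheaf.germ E e heE) hE
    rwa [TopCat.Presheaf.germ_res_apply, TopCat.Presheaf.germ_res_apply] at h
  choose V σ hVc hxV hσ using hloc
  -- remove the closure of the loci of disagreement
  let O : s × s → X.Opens := fun ab => V ab.1 ⊓ V ab.2
  have hOc : ∀ ab, IsCompact (O ab : Set X) := fun ab =>
    QuasiSeparatedSpace.inter_isCompact _ _ (V ab.1).2 (hVc ab.1) (V ab.2).2 (hVc ab.2)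
  let d : ∀ ab : s × s, Γ(X, O ab) := fun ab =>
    X.presheaf.map (homOfLE inf_le_left).op (σ ab.1) - X.presheaf.map (homOfLE inf_le_right).op (σ ab.2)
  let D : ∀ ab : s × s, Set (O ab) := fun ab => {y | X.presheaf.germ (O ab) y.1 y.2 (d ab) ≠ 0}
  have hDc : ∀ ab, IsClosed (D ab) := fun ab => by
    refine isOpen_compl_iff.mp (isOpen_iff_forall_mem_open.mpr fun y hy => ?_)
    have hy' : X.presheaf.germ (O ab) y.1 y.2 (d ab) = X.presheaf.germ (O ab) y.1 y.2 0 := by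
      rw [map_zero]; exact not_not.mp hy
    obtain ⟨Q, hyQ, j₁, j₂, hQ⟩ := X.presheaf.germ_eq y.1 y.2 y.2 _ _ hy'
    refine ⟨Subtype.val ⁻¹' (Q : Set X), fun z hz => not_not.mpr ?_,
      Q.2.preimage continuous_subtype_val, hyQ⟩
    have h := congrArg (X.presheaf.germ Q z.1 hz) hQ
    rwa [map_zero, map_zero, TopCat.Presheaf.germ_res_apply] at h
  let C : Set X := ⋃ ab : s × s, closure ((O ab).ι '' D ab)
  have hC : IsClosed C := isClosed_iUnion_of_finite fun _ => isClosed_closure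
  have hfC : ∀ t ∈ s, f t ∉ C := by
    intro t ht hmem
    obtain ⟨ab, hab⟩ := Set.mem_iUnion.mp hmem
    have : CompactSpace (O ab).toScheme := isCompact_iff_compactSpace.mp (hOc ab)
    obtain ⟨y, hy, hspec⟩ := exists_specializes_of_mem_closure_image (O ab).ι (hDc ab) hab
    obtain ⟨e, het, hef⟩ := exists_gen_lift f (hs t ht) hspec
    have heG : e ∈ Gen s := ⟨t, ht, het⟩
    refine hy ?_
    have heq : ∀ (z : X) (hz : z ∈ O ab), f e = z → X.presheaf.germ (O ab) z hz (d ab) = 0 := by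
      rintro _ hz rfl
      apply (bijective_stalkMap_of_gen f het (hs t ht)).1
      rw [map_zero]
      show f.stalkMap e _ = 0
      rw [map_sub, TopCat.Presheaf.germ_res_apply, TopCat.Presheaf.germ_res_apply, map_sub,
        hσ ab.1 e heG hz.1, hσ ab.2 e heG hz.2, sub_self]
    exact heq y.1 y.2 hef
  let V' : s → X.Opens := fun t => V t ⊓ ⟨Cᶜ, hC.isOpen_compl⟩
  obtain ⟨τ, hτ, -⟩ := TopCat.Sheaf.existsUnique_gluing' X.sheaf V' (iSup V')
    (fun t => homOfLE (le_iSup V' t)) le_rfl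
    (fun t => X.presheaf.map (homOfLE (inf_le_left : V' t ≤ V t)).op (σ t)) (fun a b => by
      change X.presheaf.map (homOfLE inf_le_left).op (X.presheaf.map (homOfLE inf_le_left).op (σ a)) =
        X.presheaf.map (homOfLE inf_le_right).op (X.presheaf.map (homOfLE inf_le_left).op (σ b))
      refine TopCat.Presheaf.section_ext X.sheaf _ _ _ fun y hy => ?_
      rw [res_res, res_res]
      show X.presheaf.germ _ y hy _ = X.presheaf.germ _ y hy _
      rw [TopCat.Presheaf.germ_res_apply, TopCat.Presheaf.germ_res_apply, ← sub_eq_zero]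
      have hyO : y ∈ O (a, b) := ⟨hy.1.1, hy.2.1⟩
      have hyD : (⟨y, hyO⟩ : O (a, b)) ∉ D (a, b) := fun h =>
        hy.1.2 (Set.mem_iUnion.mpr ⟨(a, b), subset_closure ⟨⟨y, hyO⟩, h, rfl⟩⟩)
      have h0 : X.presheaf.germ (O (a, b)) y hyO (d (a, b)) = 0 := not_not.mp hyD
      rwa [map_sub, TopCat.Presheaf.germ_res_apply, TopCat.Presheaf.germ_res_apply] at h0)
  obtain ⟨W, hWc, hsW, hWle⟩ := exists_compact_open_finset f s (iSup V') fun t ht =>
    Opens.mem_iSup.mpr ⟨⟨t, ht⟩, hxV ⟨t, ht⟩, hfC t ht⟩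
  refine ⟨W, X.presheaf.map (homOfLE hWle).op τ, hWc, hsW, fun e he hew => ?_⟩
  rw [TopCat.Presheaf.germ_res_apply]
  obtain ⟨t, hte⟩ := Opens.mem_iSup.mp (hWle hew)
  have h := congrArg (X.presheaf.germ (V' t) (f e) hte) (hτ t)
  change X.presheaf.germ (V' t) (f e) hte (X.presheaf.map (homOfLE (le_iSup V' t)).op τ) = _ at h
  rw [TopCat.Presheaf.germ_res_apply, TopCat.Presheaf.germ_res_apply] at h
  exact (congrArg (f.stalkMap e) h).trans (hσ t e he hte.1)

include hs hinj in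
/-- A section whose non-vanishing locus lies in an affine open, contains `f t` and none of the other
chosen points. -/
theorem exists_basicOpen_le_affine (t : T) (ht : t ∈ s) (P : Finset T) (hP : ∀ k ∈ P, k ∈ s)
    (hk : ∀ k ∈ P, ¬ k ⤳ t) :
    ∃ (U W : X.Opens) (σ : Γ(X, W)), IsAffineOpen U ∧ (∀ k ∈ s, f k ∈ W) ∧
      X.basicOpen σ ≤ U ∧ f t ∈ X.basicOpen σ ∧ ∀ k ∈ P, f k ∉ X.basicOpen σ := by
  classical
  obtain ⟨U, hU, hxU, -⟩ := exists_isAffineOpen_mem_and_subset (U := (⊤ : X.Opens)) (x := f t) trivial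
  let O : T.Opens := f ⁻¹ᵁ U ⊓ ⟨(⋃ k : P, closure {k.1})ᶜ,
    (isClosed_iUnion_of_finite fun _ => isClosed_closure).isOpen_compl⟩
  have htO : t ∈ O := ⟨hxU, fun h => by
    obtain ⟨k, hk'⟩ := Set.mem_iUnion.mp h
    exact hk k.1 k.2 (specializes_iff_mem_closure.mpr hk')⟩
  obtain ⟨a, haO, hta⟩ := (isAffineOpen_top T).exists_basicOpen_le (V := O) ⟨t, htO⟩ trivial
  obtain ⟨W₀, σ₀, hW₀c, hsW₀, hσ₀⟩ := exists_section f hs hinj a
  have hiff : ∀ e ∈ Gen s, ∀ (he : f e ∈ W₀), f e ∈ X.basicOpen σ₀ ↔ e ∈ T.basicOpen a := by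
    intro e he hew
    obtain ⟨k, hks, hek⟩ := he
    rw [X.mem_basicOpen _ _ hew, T.mem_basicOpen_top, ← hσ₀ e ⟨k, hks, hek⟩ hew]
    exact ⟨fun h => h.map (f.stalkMap e).hom, fun h => isUnit_of_map_unit (f.stalkMap e).hom _ h⟩
  let D := X.basicOpen σ₀
  have hDc : IsCompact (D : Set X) := by
    obtain ⟨κ, _, Q, hQ, hQle, hQsup⟩ := QCohLib.exists_finite_affine_cover hW₀c
    have he : (D : Set X) = ⋃ k, ((Q k ⊓ D : X.Opens) : Set X) := by
      refine Set.Subset.antisymm (fun y hy => ?_) (Set.iUnion_subset fun k y hy => hy.2)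
      obtain ⟨k, hk⟩ := Opens.mem_iSup.mp (hQsup (X.basicOpen_le σ₀ hy))
      exact Set.mem_iUnion.mpr ⟨k, hk, hy⟩
    rw [he]
    refine isCompact_iUnion fun k => ?_
    have := X.basicOpen_res σ₀ (homOfLE (hQle k)).op
    rw [← this]
    exact ((hQ k).basicOpen _).isCompact
  have : CompactSpace D.toScheme := isCompact_iff_compactSpace.mp hDc
  let K : Set D.toScheme := D.ι ⁻¹' (U : Set X)ᶜ
  have hKc : IsClosed K := U.2.isClosed_compl.preimage D.ι.continuous
  let W : X.Opens := W₀ ⊓ ⟨(closure (D.ι '' K))ᶜ, isClosed_closure.isOpen_compl⟩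
  have hsW : ∀ k ∈ s, f k ∈ W := by
    refine fun k hks => ⟨hsW₀ k hks, fun hmem => ?_⟩
    obtain ⟨y, hy, hspec⟩ := exists_specializes_of_mem_closure_image D.ι hKc hmem
    obtain ⟨e, hek, hef⟩ := exists_gen_lift f (hs k hks) hspec
    have heD : f e ∈ D := by rw [hef]; exact y.2
    refine hy ?_
    show D.ι y ∈ U
    rw [← hef]
    exact (haO ((hiff e ⟨k, hks, hek⟩ (X.basicOpen_le σ₀ heD)).mp heD)).1
  refine ⟨U, W, X.presheaf.map (homOfLE (inf_le_left : W ≤ W₀)).op σ₀, hU, hsW, ?_, ?_,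
    fun k hkP hmem => ?_⟩
  · rw [X.basicOpen_res]
    intro y hy
    by_contra hyU
    exact hy.1.2 (subset_closure ⟨⟨y, hy.2⟩, hyU, rfl⟩)
  · rw [X.basicOpen_res]
    exact ⟨hsW t ht, (hiff t (mem_gen_self ht) (hsW₀ t ht)).mpr hta⟩
  · rw [X.basicOpen_res] at hmem
    have := (haO ((hiff k (mem_gen_self (hP k hkP)) (hsW₀ k (hP k hkP))).mp hmem.2)).2
    exact this (Set.mem_iUnion.mpr ⟨⟨k, hkP⟩, subset_closure rfl⟩)

/-- Shrink a non-vanishing locus to an affine one without shrinking the domain. -/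
theorem exists_affine_basicOpen {W U : X.Opens} (hWc : IsCompact (W : Set X)) (hU : IsAffineOpen U)
    (σ : Γ(X, W)) (hle : X.basicOpen σ ≤ U) {x : X} (hx : x ∈ X.basicOpen σ) :
    ∃ σ' : Γ(X, W), IsAffineOpen (X.basicOpen σ') ∧ x ∈ X.basicOpen σ' ∧
      X.basicOpen σ' ≤ X.basicOpen σ := by
  obtain ⟨h, hhle, hxh⟩ := hU.exists_basicOpen_le (V := X.basicOpen σ) ⟨x, hx⟩ (hle hx)
  obtain ⟨n, y, hy⟩ := exists_eq_pow_mul_of_isCompact_of_isQuasiSeparated X W hWc
    (fun A B _ hAo hAc _ hBo hBc => QuasiSeparatedSpace.inter_isCompact A B hAo hAc hBo hBc) σ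
    (X.presheaf.map (homOfLE hle).op h)
  change X.presheaf.map (homOfLE (X.basicOpen_le σ)).op y =
    (X.presheaf.map (homOfLE (X.basicOpen_le σ)).op σ) ^ n * X.presheaf.map (homOfLE hle).op h at hy
  have h1 := congrArg X.basicOpen hy
  rw [X.basicOpen_res, X.basicOpen_mul, X.basicOpen_res _ (homOfLE hle).op] at h1
  have heq : X.basicOpen (σ * y) = X.basicOpen h := by
    rw [X.basicOpen_mul, h1]
    refine le_antisymm (fun z hz => hz.2.2) fun z hz => ⟨?_, hhle hz, hz⟩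
    rcases n with _ | n
    · rw [pow_zero, X.basicOpen_of_isUnit isUnit_one]; exact hhle hz
    · rw [X.basicOpen_pow _ n.succ_pos, X.basicOpen_res]; exact ⟨hhle hz, hhle hz⟩
  exact ⟨σ * y, heq ▸ hU.basicOpen h, heq ▸ hxh, heq ▸ hhle⟩

include hs hinj in
/-- The main theorem. -/
theorem exists_affine_nbhd : ∃ U : X.Opens, IsAffineOpen U ∧ ∀ t ∈ s, f t ∈ U := by
  classical
  let smax := s.filter fun t => ∀ u ∈ s, t ⤳ u → u = t
  have hmax : ∀ t ∈ s, ∃ u ∈ smax, t ⤳ u := by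
    intro t ht
    obtain ⟨u, hu, humin⟩ := Finset.exists_min_image (s.filter (t ⤳ ·))
      (fun u => (s.filter (u ⤳ ·)).card) ⟨t, Finset.mem_filter.mpr ⟨ht, specializes_rfl⟩⟩
    obtain ⟨hus, htu⟩ := Finset.mem_filter.mp hu
    refine ⟨u, Finset.mem_filter.mpr ⟨hus, fun v hv huv => ?_⟩, htu⟩
    have hsub : s.filter (v ⤳ ·) ⊆ s.filter (u ⤳ ·) := fun w hw => by
      rw [Finset.mem_filter] at hw ⊢; exact ⟨hw.1, huv.trans hw.2⟩
    have heq := Finset.eq_of_subset_of_card_le hsub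
      (humin v (Finset.mem_filter.mpr ⟨hv, htu.trans huv⟩))
    have : u ∈ s.filter (v ⤳ ·) := heq ▸ Finset.mem_filter.mpr ⟨hus, specializes_rfl⟩
    exact ((Finset.mem_filter.mp this).2.antisymm huv).eq
  have hd : ∀ t : smax, ∃ (U W : X.Opens) (σ : Γ(X, W)), IsAffineOpen U ∧ (∀ k ∈ s, f k ∈ W) ∧
      X.basicOpen σ ≤ U ∧ f t.1 ∈ X.basicOpen σ ∧ ∀ k ∈ smax.erase t.1, f k ∉ X.basicOpen σ :=
    fun t => exists_basicOpen_le_affine f hs hinj t.1 (Finset.mem_filter.mp t.2).1 _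
      (fun k hk => (Finset.mem_filter.mp (Finset.mem_of_mem_erase hk)).1) fun k hk hspec =>
        (Finset.ne_of_mem_erase hk) ((Finset.mem_filter.mp (Finset.mem_of_mem_erase hk)).2 _
          (Finset.mem_filter.mp t.2).1 hspec).symm
  choose U W σ hU hsW hle hxt hk using hd
  obtain ⟨W', hW'c, hsW', hW'le⟩ := exists_compact_open_finset f s (Finset.univ.inf W)
    (fun t ht => by
      rw [← SetLike.mem_coe, Opens.coe_finset_inf, Finset.inf_eq_iInf]
      simp only [Set.iInf_eq_iInter, Set.mem_iInter]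
      exact fun k _ => hsW k t ht)
  have hres : ∀ t : smax, W' ≤ W t := fun t => hW'le.trans (Finset.inf_le (Finset.mem_univ t))
  choose σ' haff hx' hle' using fun t : smax => exists_affine_basicOpen hW'c (hU t)
    (X.presheaf.map (homOfLE (hres t)).op (σ t))
    (by rw [X.basicOpen_res]; exact inf_le_right.trans (hle t))
    (x := f t.1) (by rw [X.basicOpen_res]; exact ⟨hsW' _ (Finset.mem_filter.mp t.2).1, hxt t⟩)
  let S : Γ(X, W') := ∑ t, σ' t
  let rS := X.presheaf.map (homOfLE (X.basicOpen_le S)).op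
  refine ⟨X.basicOpen S, isAffineOpen_of_isAffineOpen_basicOpen _ (Set.range fun t => rS (σ' t)) ?_ ?_,
    fun t ht => ?_⟩
  · rw [Ideal.eq_top_iff_one]
    obtain ⟨v, hv⟩ := (RingedSpace.isUnit_res_basicOpen _ S).exists_left_inv
    rw [← hv]
    refine Ideal.mul_mem_left _ _ ?_
    show rS S ∈ _
    rw [map_sum]
    exact Ideal.sum_mem _ fun t _ => Ideal.subset_span ⟨t, rfl⟩
  · rintro _ ⟨t, rfl⟩
    have h1 : X.basicOpen (rS (σ' t)) = X.basicOpen
        (X.presheaf.map (homOfLE (X.basicOpen_le (σ' t))).op S) := by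
      rw [X.basicOpen_res, X.basicOpen_res, inf_comm]
    rw [h1]
    exact (haff t).basicOpen _
  · obtain ⟨u, hu, htu⟩ := hmax t ht
    refine (htu.map f.continuous).mem_open (X.basicOpen S).2 ?_
    have hus := (Finset.mem_filter.mp hu).1
    show f u ∈ X.basicOpen S
    rw [X.mem_basicOpen _ _ (hsW' u hus)]
    have hrest : ∀ k ∈ Finset.univ.erase (⟨u, hu⟩ : smax),
        X.presheaf.germ W' (f u) (hsW' u hus) (σ' k) ∈ IsLocalRing.maximalIdeal _ := by
      intro k hkne hunit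
      have hmem : f u ∈ X.basicOpen (σ' k) := (X.mem_basicOpen _ _ _).mpr hunit
      have h2 := hle' k hmem
      rw [X.basicOpen_res] at h2
      exact hk k u (Finset.mem_erase.mpr ⟨fun e => Finset.ne_of_mem_erase hkne (Subtype.ext e.symm), hu⟩) h2.2
    have hmain : IsUnit (X.presheaf.germ W' (f u) (hsW' u hus) (σ' ⟨u, hu⟩)) :=
      (X.mem_basicOpen _ _ _).mp (hx' ⟨u, hu⟩)
    rw [map_sum, ← Finset.add_sum_erase _ _ (Finset.mem_univ (⟨u, hu⟩ : smax))]
    by_contra hnu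
    exact (IsLocalRing.mem_maximalIdeal _).mp
      (by simpa using Ideal.sub_mem _ ((IsLocalRing.mem_maximalIdeal _).mpr hnu) (Ideal.sum_mem _ hrest))
      hmain

end Groth.Agent.AffineNbhd
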